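import Mathlib.RingTheory.Artinian.Ring
import Mathlib.FieldTheory.IsAlgClosed.Basic
import Mathlib.RingTheory.HopkinsLevitzki
import Mathlib.RingTheory.Idempotents

/-!
# Finite algebras over an algebraically closed field
-/

namespace GrothLib.ArtAC

variable (k : Type*) [Field k] [IsAlgClosed k] {A : Type*} [CommRing A] [Algebra k A]
  [Module.Finite k A]

/-- The evaluation map to functions on the `k`-points. -/
noncomputable abbrev eval (A : Type*) [CommRing A] [Algebra k A] :
    A →ₐ[k] ((A →ₐ[k] k) → k) := AlgHom.pi (R := k) (fun f : A →ₐ[k] k => f)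

theorem exists_sub_mem (P : Ideal A) [P.IsMaximal] (a : A) :
    ∃ α : k, a - algebraMap k A α ∈ P := by
  letI := Ideal.Quotient.field P
  obtain ⟨α, hα⟩ := (IsAlgClosed.algebraMap_bijective_of_isIntegral (k := k) (K := A ⧸ P)).2
    (Ideal.Quotient.mk P a)
  exact ⟨α, Ideal.Quotient.eq.1 hα.symm⟩

theorem exists_algHom_ker (P : Ideal A) [P.IsMaximal] :
    ∃ f : A →ₐ[k] k, RingHom.ker f = P := by
  letI := Ideal.Quotient.field P
  let e : k ≃ₐ[k] A ⧸ P := AlgEquiv.ofBijective (Algebra.ofId k (A ⧸ P))
    (IsAlgClosed.algebraMap_bijective_of_isIntegral (k := k) (K := A ⧸ P))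
  refine ⟨e.symm.toAlgHom.comp (Ideal.Quotient.mkₐ k P), ?_⟩
  ext x
  rw [RingHom.mem_ker, ← Ideal.Quotient.eq_zero_iff_mem]
  exact e.symm.map_eq_zero_iff

omit [IsAlgClosed k] [Module.Finite k A] in
theorem ker_injective {f g : A →ₐ[k] k} (h : RingHom.ker f = RingHom.ker g) : f = g := by
  refine AlgHom.ext fun a => ?_
  have h1 : a - algebraMap k A (f a) ∈ RingHom.ker f := by
    rw [RingHom.mem_ker, map_sub, AlgHom.commutes]
    simp
  rw [h, RingHom.mem_ker, map_sub, AlgHom.commutes, sub_eq_zero] at h1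
  simpa using h1.symm

omit [IsAlgClosed k] in
theorem finite_algHom : Finite (A →ₐ[k] k) := by
  haveI : IsArtinianRing A := IsArtinianRing.of_finite k A
  haveI : Finite (PrimeSpectrum A) := inferInstance
  exact Finite.of_injective (β := PrimeSpectrum A)
    (fun f => ⟨RingHom.ker f, RingHom.ker_isPrime f⟩)
    (fun f g h => ker_injective k (congrArg PrimeSpectrum.asIdeal h))

omit [IsAlgClosed k] in
theorem eval_surjective : Function.Surjective (eval k A) := by
  classical
  haveI := finite_algHom k (A := A)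
  haveI := Fintype.ofFinite (A →ₐ[k] k)
  have hsep : ∀ f g : A →ₐ[k] k, f ≠ g → ∃ a, f a = 1 ∧ g a = 0 := by
    intro f g hfg
    obtain ⟨a, ha⟩ : ∃ a, f a ≠ g a := by
      by_contra hc
      push Not at hc
      exact hfg (AlgHom.ext hc)
    refine ⟨(f a - g a)⁻¹ • (a - algebraMap k A (g a)), ?_, ?_⟩
    · simp [inv_mul_cancel₀ (sub_ne_zero.2 ha)]
    · simp
  choose! a ha1 ha0 using hsep
  let e : (A →ₐ[k] k) → A := fun f => ∏ g ∈ Finset.univ.erase f, a f g
  have he : ∀ f g : A →ₐ[k] k, g (e f) = if g = f then 1 else 0 := by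
    intro f g
    simp only [e, map_prod]
    split_ifs with h
    · subst h
      exact Finset.prod_eq_one fun x hx => ha1 g x (Finset.ne_of_mem_erase hx).symm
    · exact Finset.prod_eq_zero (Finset.mem_erase.2 ⟨h, Finset.mem_univ g⟩) (ha0 f g (Ne.symm h))
  intro c
  refine ⟨∑ f, c f • e f, funext fun g => ?_⟩
  change g (∑ f, c f • e f) = c g
  simp [he]

theorem ker_eval : RingHom.ker (eval k A) = nilradical A := by
  haveI : IsArtinianRing A := IsArtinianRing.of_finite k A
  refine le_antisymm (fun x hx => ?_) (fun x hx => ?_)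
  · rw [nilradical_eq_sInf, Ideal.mem_sInf]
    intro P hP
    haveI : P.IsMaximal := (IsArtinianRing.isPrime_iff_isMaximal P).1 hP
    obtain ⟨f, hf⟩ := exists_algHom_ker k P
    rw [← hf, RingHom.mem_ker]
    exact congrFun hx f
  · rw [RingHom.mem_ker]
    funext f
    exact ((mem_nilradical.1 hx).map f).eq_zero

theorem eval_bijective_of_isReduced [IsReduced A] : Function.Bijective (eval k A) := by
  refine ⟨(RingHom.injective_iff_ker_eq_bot (eval k A)).2 ?_, eval_surjective k⟩
  rw [ker_eval, nilradical_eq_zero]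
  rfl

/-- The canonical section of the evaluation map. -/
theorem exists_section : ∃ s : ((A →ₐ[k] k) → k) →ₐ[k] A, ∀ c, eval k A (s c) = c := by
  classical
  haveI := finite_algHom k (A := A)
  haveI := Fintype.ofFinite (A →ₐ[k] k)
  have hnil : ∀ x ∈ RingHom.ker (eval k A).toRingHom, IsNilpotent x := fun x hx => by
    have hx' : x ∈ RingHom.ker (eval k A) := hx
    rw [ker_eval] at hx'
    exact mem_nilradical.1 hx'
  obtain ⟨e, he, hfe⟩ := CompleteOrthogonalIdempotents.lift_of_isNilpotent_ker
    (eval k A).toRingHom hnil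
    (CompleteOrthogonalIdempotents.single (fun _ : (A →ₐ[k] k) => k))
    (fun i => eval_surjective k _)
  let L : ((A →ₐ[k] k) → k) →ₗ[k] A := ∑ f, (LinearMap.proj f).smulRight (e f)
  have hL : ∀ c, L c = ∑ f, c f • e f := fun c => by simp [L]
  refine ⟨AlgHom.ofLinearMap L ?_ ?_, fun c => ?_⟩
  · rw [hL]
    simpa using he.complete
  · intro c d
    rw [hL, hL, hL, Finset.sum_mul_sum]
    refine Finset.sum_congr rfl fun f _ => ?_
    rw [Finset.sum_eq_single f (fun g _ hg => by
      rw [smul_mul_smul_comm, he.ortho (Ne.symm hg), smul_zero]) (by simp),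
      smul_mul_smul_comm, (he.idem f).eq, Pi.mul_apply]
  · have h1 : ∀ f, eval k A (e f) = Pi.single f 1 := congrFun hfe
    change eval k A (L c) = c
    rw [hL, map_sum]
    funext g
    simp [map_smul, h1, Finset.sum_apply, Pi.single_apply]

/-- An idempotent is determined by its values at the `k`-points. -/
theorem eq_of_eval_eq {x y : A} (hx : IsIdempotentElem x) (hy : IsIdempotentElem y)
    (h : eval k A x = eval k A y) : x = y := by
  refine eq_of_isNilpotent_sub_of_isIdempotentElem hx hy ?_
  have h1 : x - y ∈ RingHom.ker (eval k A) := by rw [RingHom.mem_ker, map_sub, h, sub_self]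
  rw [ker_eval] at h1
  exact mem_nilradical.1 h1

/-- Two algebra maps out of `k^E` are equal once they agree modulo nilpotents. -/
theorem pi_algHom_ext {E : Type*} [Finite E] {s t : (E → k) →ₐ[k] A}
    (h : ∀ c, eval k A (s c) = eval k A (t c)) : s = t := by
  classical
  haveI := Fintype.ofFinite E
  have h1 : ∀ i, s (Pi.single i 1) = t (Pi.single i 1) := fun i =>
    eq_of_eval_eq k (IsIdempotentElem.map (by rw [IsIdempotentElem, ← Pi.single_mul, one_mul]) s)
      (IsIdempotentElem.map (by rw [IsIdempotentElem, ← Pi.single_mul, one_mul]) t) (h _)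
  refine AlgHom.ext fun c => ?_
  have hc : c = ∑ i, c i • (Pi.single i 1 : E → k) := by
    funext j
    simp [Finset.sum_apply, Pi.single_apply]
  rw [hc, map_sum, map_sum]
  simp only [map_smul, h1]

end GrothLib.ArtAC
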